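import Groth.Agent.CommAlg6.CatenaryHeight
import Groth.Agent.CAlgMisc2.CatenaryLocal
import Groth.Prelude.Def_BlowUp2
import Mathlib.AlgebraicGeometry.Properties
import Mathlib.AlgebraicGeometry.Noetherian
import Mathlib.AlgebraicGeometry.FunctionField

/-!
# Proper intersection of an effective Cartier divisor and an integral closed subscheme
-/

set_option autoImplicit false
set_option backward.isDefEq.respectTransparency.types false

universe u

open CategoryTheory AlgebraicGeometry TopologicalSpace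

namespace Groth.Agent.Props13

open LocCoh (hq isPrime_map_mk comap_map_mk)

section Algebra

variable {A : Type u} [CommRing A] [IsNoetherianRing A]

omit [IsNoetherianRing A] in
theorem one_le_height_of_mem {f : A} (hf : f ∈ nonZeroDivisors A) {r : Ideal A} [r.IsPrime]
    (hfr : f ∈ r) : 1 ≤ r.height := by
  rw [ENat.one_le_iff_ne_zero]
  intro h0
  have hmin : r ∈ minimalPrimes A := Ideal.height_eq_zero_iff.1 h0
  exact Set.disjoint_left.1 (Ideal.disjoint_nonZeroDivisors_of_mem_minimalPrimes hmin) hfr hf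

theorem exists_le_height_eq_one {f : A} (hf : f ∈ nonZeroDivisors A) {q : Ideal A} [q.IsPrime]
    (hfq : f ∈ q) : ∃ r : Ideal A, r.IsPrime ∧ r ≤ q ∧ f ∈ r ∧ r.height = 1 := by
  obtain ⟨r, hr, hrq⟩ := Ideal.exists_minimalPrimes_le
    (show Ideal.span {f} ≤ q from (Ideal.span_singleton_le_iff_mem _).2 hfq)
  haveI := hr.1.1
  have hfr : f ∈ r := hr.1.2 (Ideal.mem_span_singleton_self f)
  exact ⟨r, hr.1.1, hrq, hfr,
    le_antisymm (Ideal.height_le_one_of_isPrincipal_of_mem_minimalPrimes _ _ hr)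
      (one_le_height_of_mem hf hfr)⟩

theorem height_eq_add_one (hcat : CAlg.IsCatenary A) (huniq : (minimalPrimes A).Subsingleton)
    {p q : Ideal A} [p.IsPrime] [q.IsPrime] {f : A} (hfp : f ∉ p) (hpq : p ≤ q) (hfq : f ∈ q)
    (hmin : ∀ r : Ideal A, r.IsPrime → p ≤ r → f ∈ r → r ≤ q → r = q) :
    q.height = p.height + 1 := by
  obtain ⟨P, hP, hPp, hPh⟩ := CommAlg6.exists_minimalPrimes_hq_eq_height p
  obtain ⟨P', hP', -, hP'h⟩ := CommAlg6.exists_minimalPrimes_hq_eq_height q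
  obtain rfl := huniq hP hP'
  haveI := hP.1.1
  rw [← hPh, ← hP'h, ← CommAlg6.hq_add_eq hcat hPp hpq]
  congr 1
  haveI := isPrime_map_mk hpq
  have hmem : Ideal.Quotient.mk p f ∈ q.map (Ideal.Quotient.mk p) := Ideal.mem_map_of_mem _ hfq
  have hne : Ideal.Quotient.mk p f ≠ 0 := by rwa [Ne, Ideal.Quotient.eq_zero_iff_mem]
  have hmin' : q.map (Ideal.Quotient.mk p) ∈
      (Ideal.span {Ideal.Quotient.mk p f}).minimalPrimes := by
    refine ⟨⟨inferInstance, (Ideal.span_singleton_le_iff_mem _).2 hmem⟩, fun r hr hrq => ?_⟩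
    haveI := hr.1
    have h1 : (r.comap (Ideal.Quotient.mk p)) = q := by
      refine hmin _ inferInstance ?_ (hr.2 (Ideal.mem_span_singleton_self _)) ?_
      · intro x hx
        rw [Ideal.mem_comap, Ideal.Quotient.eq_zero_iff_mem.2 hx]
        exact zero_mem _
      · exact (Ideal.comap_mono hrq).trans (comap_map_mk hpq).le
    rw [← h1, Ideal.map_comap_of_surjective _ Ideal.Quotient.mk_surjective]
  exact le_antisymm (Ideal.height_le_one_of_isPrincipal_of_mem_minimalPrimes _ _ hmin')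
    (one_le_height_of_mem (mem_nonZeroDivisors_of_ne_zero hne) hmem)

end Algebra

section Scheme

variable {X : Scheme.{u}}

theorem dim_stalk_eq_height {U : X.Opens} (hU : IsAffineOpen U) (x : U) :
    ringKrullDim (X.presheaf.stalk x.1) = (hU.primeIdealOf x).asIdeal.height := by
  letI := TopCat.Presheaf.algebra_section_stalk X.presheaf x
  haveI := hU.isLocalization_stalk x
  exact IsLocalization.AtPrime.ringKrullDim_eq_height _ _

theorem primeIdealOf_le {U : X.Opens} (hU : IsAffineOpen U) {x y : U} (h : x.1 ⤳ y.1) :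
    (hU.primeIdealOf x).asIdeal ≤ (hU.primeIdealOf y).asIdeal := by
  refine (PrimeSpectrum.le_iff_specializes _ _).2 ?_
  refine hU.fromSpec.isOpenEmbedding.isInducing.specializes_iff.1 ?_
  rw [hU.fromSpec_primeIdealOf, hU.fromSpec_primeIdealOf]
  exact h

theorem fromSpec_specializes {U : X.Opens} (hU : IsAffineOpen U) {a b : PrimeSpectrum Γ(X, U)}
    (h : a.asIdeal ≤ b.asIdeal) : hU.fromSpec a ⤳ hU.fromSpec b :=
  ((PrimeSpectrum.le_iff_specializes a b).1 h).map hU.fromSpec.continuous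

theorem primeIdealOf_fromSpec {U : X.Opens} (hU : IsAffineOpen U) (a : PrimeSpectrum Γ(X, U))
    (ha : hU.fromSpec a ∈ U) : hU.primeIdealOf ⟨_, ha⟩ = a := by
  apply hU.fromSpec.isOpenEmbedding.injective
  rw [hU.fromSpec_primeIdealOf]

theorem mem_support_iff (𝓘 : X.IdealSheafData) (U : X.affineOpens) {g : Γ(X, U.1)}
    (hg : 𝓘.ideal U = Ideal.span {g}) (x : U.1) :
    x.1 ∈ (𝓘.support : Set X) ↔ g ∈ (U.2.primeIdealOf x).asIdeal := by
  have h1 : x.1 ∈ (𝓘.support : Set X) ↔ x.1 ∈ X.zeroLocus (U := U.1) (𝓘.ideal U : Set Γ(X, U.1)) :=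
    ⟨fun h => ((𝓘.coe_support_inter U).le ⟨h, x.2⟩).1, fun h => ((𝓘.coe_support_inter U).ge ⟨h, x.2⟩).1⟩
  rw [h1, hg, Scheme.zeroLocus_span, Scheme.zeroLocus_singleton, Set.mem_compl_iff, SetLike.mem_coe,
    Scheme.mem_basicOpen _ _ _ x.2]
  letI := TopCat.Presheaf.algebra_section_stalk X.presheaf x
  haveI := U.2.isLocalization_stalk x
  rw [show (X.presheaf.germ U.1 x.1 x.2).hom g = algebraMap Γ(X, U.1) (X.presheaf.stalk x.1) g from rfl,
    IsLocalization.AtPrime.isUnit_to_map_iff (X.presheaf.stalk x.1) (U.2.primeIdealOf x).asIdeal]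
  exact not_not

theorem isCatenary_of_stalks (hcat : ∀ x : X, CAlg.IsCatenary (X.presheaf.stalk x))
    {U : X.Opens} (hU : IsAffineOpen U) : CAlg.IsCatenary Γ(X, U) := by
  refine CAlgMisc2.isCatenary_of_forall_maximal fun m _ => ?_
  let x : PrimeSpectrum Γ(X, U) := ⟨m, inferInstance⟩
  have hx : hU.fromSpec x ∈ U := by
    rw [← SetLike.mem_coe, ← hU.range_fromSpec]
    exact ⟨x, rfl⟩
  letI := TopCat.Presheaf.algebra_section_stalk X.presheaf ⟨_, hx⟩
  haveI : IsLocalization.AtPrime (X.presheaf.stalk (hU.fromSpec x)) m := hU.isLocalization_stalk' x hx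
  let e := (IsLocalization.algEquiv m.primeCompl (X.presheaf.stalk (hU.fromSpec x))
    (Localization.AtPrime m)).toRingEquiv
  refine CAlgH.isCatenary_of_embedding (PrimeSpectrum.comapEquiv e).symm.toOrderEmbedding ?_ (hcat _)
  intro a b y _ _
  exact ⟨PrimeSpectrum.comapEquiv e y, (PrimeSpectrum.comapEquiv e).symm_apply_apply y⟩

theorem minimalPrimes_subsingleton [IrreducibleSpace X] {U : X.Opens} (hU : IsAffineOpen U) :
    (minimalPrimes Γ(X, U)).Subsingleton := by
  intro p hp q hq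
  haveI := hp.1.1
  haveI := hq.1.1
  let a : PrimeSpectrum Γ(X, U) := ⟨p, inferInstance⟩
  let b : PrimeSpectrum Γ(X, U) := ⟨q, inferInstance⟩
  have ha : hU.fromSpec a ∈ U := by
    rw [← SetLike.mem_coe, ← hU.range_fromSpec]
    exact ⟨a, rfl⟩
  have hgen : genericPoint X ∈ U :=
    ((genericPoint_spec X).mem_open_set_iff U.isOpen).2 ⟨_, trivial, ha⟩
  let c := hU.primeIdealOf ⟨_, hgen⟩
  have key : ∀ d : PrimeSpectrum Γ(X, U), c.asIdeal ≤ d.asIdeal := by
    intro d
    have hd : hU.fromSpec d ∈ U := by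
      rw [← SetLike.mem_coe, ← hU.range_fromSpec]
      exact ⟨d, rfl⟩
    have := primeIdealOf_le hU (x := ⟨_, hgen⟩) (y := ⟨_, hd⟩) (genericPoint_specializes _)
    rwa [primeIdealOf_fromSpec hU d hd] at this
  have e1 : p = c.asIdeal := le_antisymm (hp.2 ⟨inferInstance, bot_le⟩ (key a)) (key a)
  have e2 : q = c.asIdeal := le_antisymm (hq.2 ⟨inferInstance, bot_le⟩ (key b)) (key b)
  rw [e1, e2]

theorem properIntersection {Z : Scheme.{u}}
    [IsLocallyNoetherian X] [IrreducibleSpace X] (hcat : ∀ x : X, CAlg.IsCatenary (X.presheaf.stalk x))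
    (𝓘 : X.IdealSheafData) (hY : BlowUp.IsEffCartierIdeal 𝓘)
    (i : Z ⟶ X) [IsClosedImmersion i] [IsIntegral Z] (hc : BlowUp.IsEffCartierIdeal (𝓘.comap i))
    (ζ : X) (hζ : ζ ∈ (𝓘.support : Set X) ∩ Set.range i.base)
    (hmax : ∀ ζ' : X, ζ' ∈ (𝓘.support : Set X) ∩ Set.range i.base → ζ' ⤳ ζ → ζ' = ζ) :
    ringKrullDim (X.presheaf.stalk ζ) =
      (⨅ y : (𝓘.support : Set X), ringKrullDim (X.presheaf.stalk y.1)) +
        ringKrullDim (X.presheaf.stalk (i (genericPoint Z))) := by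
  obtain ⟨U, hζU, f, hf, hfI⟩ := hY ζ
  haveI : IsNoetherianRing Γ(X, U.1) := IsLocallyNoetherian.component_noetherian U
  set ξ := i (genericPoint Z) with hξdef
  have hξζ : ξ ⤳ ζ := by
    obtain ⟨z, rfl⟩ := hζ.2
    exact (genericPoint_specializes z).map i.continuous
  have hξU : ξ ∈ U.1 := hξζ.mem_open U.1.isOpen hζU
  let p := U.2.primeIdealOf ⟨ξ, hξU⟩
  let q := U.2.primeIdealOf ⟨ζ, hζU⟩
  have hξsupp : ξ ∉ (𝓘.support : Set X) := by
    intro hmem
    obtain ⟨V, hV, g, hg, hgI⟩ := hc (genericPoint Z)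
    have h1 : genericPoint Z ∈ ((𝓘.comap i).support : Set Z) := by
      rw [Scheme.IdealSheafData.support_comap]
      exact hmem
    have h2 := (mem_support_iff (𝓘.comap i) V hgI ⟨_, hV⟩).1 h1
    haveI : Nonempty V.1 := ⟨⟨_, hV⟩⟩
    letI := TopCat.Presheaf.algebra_section_stalk Z.presheaf (U := V.1) ⟨_, hV⟩
    haveI : IsLocalization.AtPrime (Z.presheaf.stalk (genericPoint Z))
        (V.2.primeIdealOf ⟨_, hV⟩).asIdeal := V.2.isLocalization_stalk ⟨_, hV⟩
    have h3 : Z.presheaf.germ V.1 (genericPoint Z) hV g = 0 := by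
      by_contra hne
      have hu : IsUnit (Z.presheaf.germ V.1 (genericPoint Z) hV g) :=
        isUnit_iff_ne_zero (G₀ := Z.functionField).2 hne
      exact ((IsLocalization.AtPrime.isUnit_to_map_iff (Z.presheaf.stalk (genericPoint Z))
        (V.2.primeIdealOf ⟨_, hV⟩).asIdeal g).1 hu) h2
    have h4 : g = 0 := germ_injective_of_isIntegral Z (genericPoint Z) hV (h3.trans (map_zero _).symm)
    exact zero_notMem_nonZeroDivisors (h4 ▸ hg)
  have hfp : f ∉ p.asIdeal := fun h => hξsupp ((mem_support_iff 𝓘 U hfI ⟨ξ, hξU⟩).2 h)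
  have hfq : f ∈ q.asIdeal := (mem_support_iff 𝓘 U hfI ⟨ζ, hζU⟩).1 hζ.1
  have hmin : ∀ r : Ideal Γ(X, U.1), r.IsPrime → p.asIdeal ≤ r → f ∈ r → r ≤ q.asIdeal →
      r = q.asIdeal := by
    intro r hr hpr hfr hrq
    let a : PrimeSpectrum Γ(X, U.1) := ⟨r, hr⟩
    have haU : U.2.fromSpec a ∈ U.1 := by
      rw [← SetLike.mem_coe, ← U.2.range_fromSpec]
      exact ⟨a, rfl⟩
    have h1 : ξ ⤳ U.2.fromSpec a := by
      have := fromSpec_specializes U.2 (a := p) (b := a) hpr
      rwa [U.2.fromSpec_primeIdealOf] at this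
    have h2 : U.2.fromSpec a ⤳ ζ := by
      have := fromSpec_specializes U.2 (a := a) (b := q) hrq
      rwa [U.2.fromSpec_primeIdealOf] at this
    have hmem : U.2.fromSpec a ∈ (𝓘.support : Set X) :=
      (mem_support_iff 𝓘 U hfI ⟨_, haU⟩).2 (by rw [primeIdealOf_fromSpec]; exact hfr)
    have hran : U.2.fromSpec a ∈ Set.range i :=
      h1.mem_closed i.isClosedEmbedding.isClosed_range ⟨genericPoint Z, rfl⟩
    have e := hmax _ ⟨hmem, hran⟩ h2
    have : q = a := U.2.fromSpec.isOpenEmbedding.injective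
      ((U.2.fromSpec_primeIdealOf ⟨ζ, hζU⟩).trans e.symm)
    rw [this]
  have hh := height_eq_add_one (isCatenary_of_stalks hcat U.2) (minimalPrimes_subsingleton U.2) hfp
    (primeIdealOf_le U.2 (x := ⟨ξ, hξU⟩) (y := ⟨ζ, hζU⟩) hξζ) hfq hmin
  have hinf : (⨅ y : (𝓘.support : Set X), ringKrullDim (X.presheaf.stalk y.1)) = 1 := by
    refine le_antisymm ?_ (le_iInf fun y => ?_)
    · obtain ⟨r, hr, hrq, hfr, hr1⟩ := exists_le_height_eq_one hf hfq
      let a : PrimeSpectrum Γ(X, U.1) := ⟨r, hr⟩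
      have haU : U.2.fromSpec a ∈ U.1 := by
        rw [← SetLike.mem_coe, ← U.2.range_fromSpec]
        exact ⟨a, rfl⟩
      have hmem : U.2.fromSpec a ∈ (𝓘.support : Set X) :=
        (mem_support_iff 𝓘 U hfI ⟨_, haU⟩).2 (by rw [primeIdealOf_fromSpec]; exact hfr)
      refine (iInf_le _ ⟨_, hmem⟩).trans ?_
      rw [dim_stalk_eq_height U.2 ⟨_, haU⟩, primeIdealOf_fromSpec, show a.asIdeal.height = 1 from hr1]
      rfl
    · obtain ⟨V, hyV, g, hg, hgI⟩ := hY y.1
      rw [dim_stalk_eq_height V.2 ⟨y.1, hyV⟩]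
      have := one_le_height_of_mem hg ((mem_support_iff 𝓘 V hgI ⟨y.1, hyV⟩).1 y.2)
      exact_mod_cast this
  rw [hinf, dim_stalk_eq_height U.2 ⟨ζ, hζU⟩, dim_stalk_eq_height U.2 ⟨ξ, hξU⟩, hh, add_comm]
  norm_cast

end Scheme

end Groth.Agent.Props13
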